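import Cfsg.Agent.Lib.Grp.HSx.D0

set_option autoImplicit false
set_option maxRecDepth 100000
set_option Elab.async false
set_option linter.unusedSectionVars false

namespace Cfsg.Agent.CG.HSx

noncomputable def tabs : List ℕ := [t0,t1,t2,t3,t4,t5,t6,t7,t8,t9,t10,t11,t12,t13,t14,t15,t16,t17,t18,t19,t20,t21,t22,t23]
noncomputable abbrev app : ℕ → ℕ → ℕ := appT tabs t24 0xffff
noncomputable def slpL : List (Bool × List ℕ) := [(false,[]),
  (false,[]),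
  (false,[]),
  (false,[]),
  (false,[]),
  (false,[4,3,3,4]),
  (true,[5]),
  (false,[0,4,3]),
  (true,[7]),
  (false,[7,5,4]),
  (true,[9]),
  (false,[3]),
  (true,[11]),
  (false,[6,10,5,9]),
  (true,[13]),
  (false,[4,7,0]),
  (true,[15]),
  (false,[12,16,16,12,16,13]),
  (true,[17]),
  (false,[11,14,16,11,11]),
  (true,[19]),
  (false,[16,16,12,14,12]),
  (true,[21]),
  (false,[21,20,22,18,22])]
noncomputable def slp (a : ℕ) : Bool × List ℕ := nth slpL (false, []) a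
noncomputable def invL : List ℕ := [1,0,3,2,4,6,5,8,7,10,9,12,11,14,13,16,15,18,17,20,19,22,21,23]
noncomputable def inv (a : ℕ) : ℕ := nth invL 24 a
noncomputable def bs : List ℕ := [0,1584,336,48]
noncomputable def mc0 : Lvl := ⟨0, [0,1,2,3,4,5,6,7,8,9,10], 1408,
  fun i => look 0xffff mc0c (Nat.mul 16 i), fun i => look 0xfff mc0p (Nat.mul 12 i),
  fun i => look 0xff mc0l (Nat.mul 8 i), fun i => look 0xff mc0i (Nat.mul 8 i), fun x => look 0xffff mc0q x, 5⟩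
noncomputable def mc1 : Lvl := ⟨1584, [11,12,13,14,15,16], 504,
  fun i => look 0xffff mc1c (Nat.mul 16 i), fun i => look 0xfff mc1p (Nat.mul 12 i),
  fun i => look 0xff mc1l (Nat.mul 8 i), fun i => look 0xff mc1i (Nat.mul 8 i), fun x => look 0xffff mc1q x, 5⟩
noncomputable def mc2 : Lvl := ⟨336, [17,18,19,20,21,22], 125,
  fun i => look 0xffff mc2c (Nat.mul 16 i), fun i => look 0xff mc2p (Nat.mul 8 i),
  fun i => look 0xff mc2l (Nat.mul 8 i), fun i => look 0xff mc2i (Nat.mul 8 i), fun x => look 0xffff mc2q x, 4⟩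
noncomputable def mc3 : Lvl := ⟨48, [23], 2,
  fun i => look 0xffff mc3c (Nat.mul 16 i), fun i => look 0xf mc3p (Nat.mul 4 i),
  fun i => look 0xff mc3l (Nat.mul 8 i), fun i => look 0xff mc3i (Nat.mul 8 i), fun x => look 0xffff mc3q x, 1⟩
noncomputable def mc : List Lvl := [mc0, mc1, mc2, mc3]
noncomputable def tcR : List (List ℕ) := [[0,1],
  [2,3],
  [4,4],
  [2,2,2,2,2,2],
  [0,0,2,0,0,3],
  [1,3,0,2,1,3,0,2,1,3,0,2],
  [1,2,2,0,2,2,2,1,2,2,0,2,2,2,1,2,2,0,2,2,2],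
  [0,2,0,2,0,2,0,2,0,2,0,2,0,2,0,2],
  [0,2,0,2,2,2,0,2,0,2,2,2,0,2,0,2,2,2,0,2,0,2,2,2],
  [4,0,4,0],
  [4,2,1,3,3,1,3,1,3,4,2,0,2,0,2,2,0,3,1,1],
  [4,3,1,3,1,3,3,3,4,2,2,2,0,2,0,2,0,3,1,3,1,3,3,3,4,2,2,2,0,2,0,2,0,3,1,3,1,3,3,3,4,2,2,2,0,2,0,2,0]]
noncomputable def tcS : List ℕ := [0,1,2,3,4]

end Cfsg.Agent.CG.HSx
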