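import Cfsg.Agent.Lib.Grp.HSx.C0

set_option autoImplicit false
set_option maxRecDepth 100000
set_option Elab.async false
set_option linter.unusedSectionVars false

namespace Cfsg.Agent.CG.HSx

theorem tabOK : TabOK 1408 16 app 5 24 inv slp where
  w_pos := by decide
  base := allRange_of_allL (l := [0,1,2,3,4]) (by decide +kernel) (allL_cons (allLt_of_allRange c0) (allL_cons (allLt_of_allRange c1) (allL_cons (allLt_of_allRange c2) (allL_cons (allLt_of_allRange c3) (allL_cons (allLt_of_allRange c4) (allL_nil _))))))
  defs := allRange_of_allL (l := [5,6,7,8,9,10,11,12,13,14,15,16,17,18,19,20,21,22,23]) (by decide +kernel) (allL_cons c5 (allL_cons c6 (allL_cons c7 (allL_cons c8 (allL_cons c9 (allL_cons c10 (allL_cons c11 (allL_cons c12 (allL_cons c13 (allL_cons c14 (allL_cons c15 (allL_cons c16 (allL_cons c17 (allL_cons c18 (allL_cons c19 (allL_cons c20 (allL_cons c21 (allL_cons c22 (allL_cons c23 (allL_nil _))))))))))))))))))))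
  lt := by decide +kernel
  triv := appT_triv (by decide +kernel)
  trivk := c24

/-- The group generated by the basic tables. -/
noncomputable abbrev PG : Subgroup (Equiv.Perm (Fin 1408)) := tabGroup 1408 16 app 5

noncomputable def act : Act PG (Fin 1408) := tabOK.act

theorem chain : ChainOK act mc [] :=
  chainOK_of_chk act mc [] (by simp) (okc_of_okcb c29) c30
  (allL_cons c25 (allL_cons c26 (allL_cons c27 (allL_cons c28 (allL_nil _)))))

theorem rels : ∀ v ∈ tcR, ev act.gen v = 1 :=
  tabOK.rels (allL_cons c31 (allL_cons c32 (allL_cons c33 (allL_cons c34 (allL_cons c35 (allL_cons c36 (allL_cons c37 (allL_cons c38 (allL_cons c39 (allL_cons c40 (allL_cons c41 (allL_cons c42 (allL_nil _)))))))))))))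

theorem clS : cl act.gen tcS = ⊤ := tabOK.clS (by decide +kernel)

theorem prod_mc : prodN mc = 177408000 := by decide +kernel

theorem le_card : 177408000 ≤ Nat.card PG := prod_mc ▸ chain.prodN_le_card

variable [hb : Fact (Bounds tcR tcS 177408000)]
include hb

theorem bounds : Bounds tcR tcS 177408000 := hb.out

theorem card_le : Nat.card PG ≤ prodN mc := prod_mc ▸ (bounds.card_le rels clS).2

theorem card : Nat.card PG = 177408000 := prod_mc ▸ chain.card_eq card_le

theorem base : act.IsBase bs := (show bases mc = bs from (eqL_iff _ _).1 (by decide +kernel)) ▸ chain.isBase card_le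

theorem hinv : ∀ a, act.gen (inv a) = (act.gen a)⁻¹ :=
  tabOK.inv (by decide) base (by decide +kernel) (by decide +kernel)


end Cfsg.Agent.CG.HSx
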