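import Cfsg.Agent.Lib.Grp.HSx.Defs

set_option autoImplicit false
set_option maxRecDepth 100000
set_option Elab.async false
set_option linter.unusedSectionVars false

namespace Cfsg.Agent.CG.HSx

theorem c0 : allRange (chkBase 1408 16 (appT tabs t24 0xffff) 0 (inv 0)) 0 1408 = true := by decide +kernel
theorem c1 : allRange (chkBase 1408 16 (appT tabs t24 0xffff) 1 (inv 1)) 0 1408 = true := by decide +kernel
theorem c2 : allRange (chkBase 1408 16 (appT tabs t24 0xffff) 2 (inv 2)) 0 1408 = true := by decide +kernel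
theorem c3 : allRange (chkBase 1408 16 (appT tabs t24 0xffff) 3 (inv 3)) 0 1408 = true := by decide +kernel
theorem c4 : allRange (chkBase 1408 16 (appT tabs t24 0xffff) 4 (inv 4)) 0 1408 = true := by decide +kernel
theorem c5 : chkDef 16 (appT tabs t24 0xffff) 5 (slp 5) 0 1408 = true := by decide +kernel
theorem c6 : chkDef 16 (appT tabs t24 0xffff) 6 (slp 6) 0 1408 = true := by decide +kernel
theorem c7 : chkDef 16 (appT tabs t24 0xffff) 7 (slp 7) 0 1408 = true := by decide +kernel
theorem c8 : chkDef 16 (appT tabs t24 0xffff) 8 (slp 8) 0 1408 = true := by decide +kernel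
theorem c9 : chkDef 16 (appT tabs t24 0xffff) 9 (slp 9) 0 1408 = true := by decide +kernel
theorem c10 : chkDef 16 (appT tabs t24 0xffff) 10 (slp 10) 0 1408 = true := by decide +kernel
theorem c11 : chkDef 16 (appT tabs t24 0xffff) 11 (slp 11) 0 1408 = true := by decide +kernel
theorem c12 : chkDef 16 (appT tabs t24 0xffff) 12 (slp 12) 0 1408 = true := by decide +kernel
theorem c13 : chkDef 16 (appT tabs t24 0xffff) 13 (slp 13) 0 1408 = true := by decide +kernel
theorem c14 : chkDef 16 (appT tabs t24 0xffff) 14 (slp 14) 0 1408 = true := by decide +kernel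
theorem c15 : chkDef 16 (appT tabs t24 0xffff) 15 (slp 15) 0 1408 = true := by decide +kernel
theorem c16 : chkDef 16 (appT tabs t24 0xffff) 16 (slp 16) 0 1408 = true := by decide +kernel
theorem c17 : chkDef 16 (appT tabs t24 0xffff) 17 (slp 17) 0 1408 = true := by decide +kernel
theorem c18 : chkDef 16 (appT tabs t24 0xffff) 18 (slp 18) 0 1408 = true := by decide +kernel
theorem c19 : chkDef 16 (appT tabs t24 0xffff) 19 (slp 19) 0 1408 = true := by decide +kernel
theorem c20 : chkDef 16 (appT tabs t24 0xffff) 20 (slp 20) 0 1408 = true := by decide +kernel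
theorem c21 : chkDef 16 (appT tabs t24 0xffff) 21 (slp 21) 0 1408 = true := by decide +kernel
theorem c22 : chkDef 16 (appT tabs t24 0xffff) 22 (slp 22) 0 1408 = true := by decide +kernel
theorem c23 : chkDef 16 (appT tabs t24 0xffff) 23 (slp 23) 0 1408 = true := by decide +kernel
theorem c24 : chkDef 16 (appT tabs t24 0xffff) 24 (false, []) 0 1408 = true := by decide +kernel
theorem c25 : mc0.chk (appT tabs t24 0xffff) 1 1407 = true := by decide +kernel
theorem c26 : mc1.chk (appT tabs t24 0xffff) 1 503 = true := by decide +kernel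
theorem c27 : mc2.chk (appT tabs t24 0xffff) 1 124 = true := by decide +kernel
theorem c28 : mc3.chk (appT tabs t24 0xffff) 1 1 = true := by decide +kernel
theorem c29 : okcb 1408 16 (bases mc) = true := by decide +kernel
theorem c30 : headAll (appT tabs t24 0xffff) mc [] = true := by decide +kernel
theorem c31 : oneAll 16 (appT tabs t24 0xffff) [0,1] 0 1408 = true := by decide +kernel
theorem c32 : oneAll 16 (appT tabs t24 0xffff) [2,3] 0 1408 = true := by decide +kernel
theorem c33 : oneAll 16 (appT tabs t24 0xffff) [4,4] 0 1408 = true := by decide +kernel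
theorem c34 : oneAll 16 (appT tabs t24 0xffff) [2,2,2,2,2,2] 0 1408 = true := by decide +kernel
theorem c35 : oneAll 16 (appT tabs t24 0xffff) [0,0,2,0,0,3] 0 1408 = true := by decide +kernel
theorem c36 : oneAll 16 (appT tabs t24 0xffff) [1,3,0,2,1,3,0,2,1,3,0,2] 0 1408 = true := by decide +kernel
theorem c37 : oneAll 16 (appT tabs t24 0xffff) [1,2,2,0,2,2,2,1,2,2,0,2,2,2,1,2,2,0,2,2,2] 0 1408 = true := by decide +kernel
theorem c38 : oneAll 16 (appT tabs t24 0xffff) [0,2,0,2,0,2,0,2,0,2,0,2,0,2,0,2] 0 1408 = true := by decide +kernel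
theorem c39 : oneAll 16 (appT tabs t24 0xffff) [0,2,0,2,2,2,0,2,0,2,2,2,0,2,0,2,2,2,0,2,0,2,2,2] 0 1408 = true := by decide +kernel
theorem c40 : oneAll 16 (appT tabs t24 0xffff) [4,0,4,0] 0 1408 = true := by decide +kernel
theorem c41 : oneAll 16 (appT tabs t24 0xffff) [4,2,1,3,3,1,3,1,3,4,2,0,2,0,2,2,0,3,1,1] 0 1408 = true := by decide +kernel
theorem c42 : oneAll 16 (appT tabs t24 0xffff) [4,3,1,3,1,3,3,3,4,2,2,2,0,2,0,2,0,3,1,3,1,3,3,3,4,2,2,2,0,2,0,2,0,3,1,3,1,3,3,3,4,2,2,2,0,2,0,2,0] 0 1408 = true := by decide +kernel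

end Cfsg.Agent.CG.HSx
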